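import Cfsg.Agent.S4473
import Cfsg.Agent.Lib.Char.LargePrimes
import Cfsg.Agent.Lib.DerivedLength.LinearPGroup
import Cfsg.Prelude.Def_Transfer
import Cfsg.Prelude.Def_Solvable

/-!
# Elements of prime-power order with two eigenvalues

* `commute_of_quadratic`: in a finite complex linear group two `p`-elements (`p ≥ 7`) satisfying quadratic
  equations commute (an irreducible constituent of the group they generate has degree at most 2, and in degree 2 the
  centre has index dividing 60 by S4473).
* `mem_pCore_of_quadratic`: so such an element lies in `O_p`.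
-/

set_option autoImplicit false
set_option linter.style.haveILetI false

namespace Cfsg.Agent.TwoEigen

open Module
open scoped commutatorElement

theorem mem_of_sq_mem {H : Type*} [Group H] {L : Subgroup H} {x : H} {N : ℕ} (hN : Odd N)
    (hx : x ^ N = 1) (h : x ^ 2 ∈ L) : x ∈ L := by
  obtain ⟨m, rfl⟩ := hN
  have : x = ((x ^ 2) ^ m)⁻¹ := by
    rw [eq_inv_iff_mul_eq_one, ← pow_mul, ← pow_succ', hx]
  rw [this]
  exact inv_mem (pow_mem h m)

universe u

variable {H : Type u} [Group H] [Finite H] {p : ℕ}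

/-- The case of degree at most two. -/
theorem commute_of_degree_le_two (hp : p.Prime) (h7 : 7 ≤ p) {n : ℕ} (hn : n ≤ 2)
    (ρ : Representation ℂ H (Fin n → ℂ)) (hρ : Function.Injective ρ) (x y : H)
    (hx : ∃ k, x ^ p ^ k = 1) (hy : ∃ k, y ^ p ^ k = 1)
    (hgen : Subgroup.closure ({x, y} : Set H) = ⊤) : x * y = y * x := by
  classical
  haveI := Fintype.ofFinite H
  obtain ⟨m, hm, hm'⟩ := Char.IsCharacter.exists_decomp (χ := ρ.character) ⟨n, ρ, rfl⟩
  by_cases hall : ∀ ψ : IrrCharacter H, m ψ ≠ 0 → ψ.1 1 = 1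
  · have : ⁅x, y⁆ = 1 := Char.LargePrimes.eq_one_of_constituents ρ hρ m hm fun ψ hψ => by
      obtain ⟨lam, hlam⟩ := Char.IsCharacter.exists_monoidHom (Char.irr_isCharacter ψ) (hall ψ hψ)
      rw [← hlam, commutatorElement_def, map_mul, map_mul, map_mul, mul_right_comm (lam _) (lam _) (lam _),
        ← map_mul, mul_inv_cancel, map_one, one_mul, ← map_mul, mul_inv_cancel, map_one]
    exact commutatorElement_eq_one_iff_mul_comm.mp this
  simp only [not_forall] at hall
  obtain ⟨ψ, hψ, hψ1⟩ := hall
  have hd : Char.degree ψ ≤ n := Char.LargePrimes.degree_le ρ m hm ψ hψ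
  have hd0 : Char.degree ψ ≠ 0 := fun h0 => Char.IsIrrCharacter.apply_one_ne_zero ψ.2 (by
    rw [Char.apply_one_eq_degree, h0, Nat.cast_zero])
  have hd1 : Char.degree ψ ≠ 1 := fun h1 => hψ1 (by rw [Char.apply_one_eq_degree, h1, Nat.cast_one])
  have hn2 : n = 2 := by omega
  have hd2 : Char.degree ψ = 2 := by omega
  have hchar : ρ.character = ψ.1 := Char.eq_of_constituent_degree ⟨n, ρ, rfl⟩ ψ
    (by rw [hm']; exact Nat.cast_ne_zero.mpr hψ)
    (by rw [ρ.char_one, Module.finrank_fin_fun, Char.apply_one_eq_degree, hd2, hn2])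
  have hidx := S4473.result ψ
    (fun g hg => Char.LargePrimes.eq_one_of_character_eq ρ hρ (by rwa [hchar]))
    (by
      apply Nat.cast_injective (R := ℂ)
      rw [Char.charDegree_cast, Char.apply_one_eq_degree, hd2])
    (by
      intro L hL θ hθ heq
      haveI := Fintype.ofFinite L
      obtain ⟨d, σ, rfl⟩ := hθ
      have h1 := congrFun heq 1
      rw [Char.apply_one_eq_degree, hd2, Char.indFun_apply_one, σ.char_one, Module.finrank_fin_fun] at h1
      have h2 : L.index * d = 2 := by exact_mod_cast h1.symm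
      have hL2 : L.index = 2 := ((Nat.dvd_prime Nat.prime_two).mp ⟨d, h2.symm⟩).resolve_left
        fun h => hL (Subgroup.index_eq_one.mp h)
      refine hL (top_le_iff.mp (hgen ▸ (Subgroup.closure_le L).mpr ?_))
      have hodd : ∀ z : H, (∃ k, z ^ p ^ k = 1) → z ∈ L := fun z ⟨k, hk⟩ =>
        mem_of_sq_mem ((hp.odd_of_ne_two (by omega)).pow) hk (Subgroup.sq_mem_of_index_two hL2 z)
      rintro z (rfl | rfl)
      · exact hodd _ hx
      · exact hodd _ hy)
  have hxc : x ∈ Subgroup.center H := by
    obtain ⟨k, hk⟩ := hx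
    have hcop : Nat.Coprime (Subgroup.center H).index (p ^ k) := by
      refine Nat.Coprime.pow_right _ ((hp.coprime_iff_not_dvd.mpr fun hd => ?_).symm)
      have h60 : p ∣ 120 := hd.trans (by rcases hidx with h | h | h <;> rw [h] <;> norm_num)
      rw [show (120 : ℕ) = 2 ^ 3 * (3 * 5) by norm_num] at h60
      rcases hp.dvd_mul.mp h60 with h | h
      · have := Nat.le_of_dvd (by norm_num) (hp.dvd_of_dvd_pow h); omega
      · rcases hp.dvd_mul.mp h with h | h <;> (have := Nat.le_of_dvd (by norm_num) h; omega)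
    have h1 : x ^ (Subgroup.center H).index ∈ Subgroup.center H := Subgroup.pow_index_mem _ x
    have h2 : x ^ (p ^ k) ∈ Subgroup.center H := by rw [hk]; exact one_mem _
    have h3 : x ^ Nat.gcd (Subgroup.center H).index (p ^ k) ∈ Subgroup.center H := by
      rw [← zpow_natCast, Nat.gcd_eq_gcd_ab, zpow_add, zpow_mul, zpow_mul, zpow_natCast, zpow_natCast]
      exact mul_mem (zpow_mem h1 _) (zpow_mem h2 _)
    rwa [hcop.gcd_eq_one, pow_one] at h3
  exact (Subgroup.mem_center_iff.mp hxc y).symm

variable {V : Type*} [AddCommGroup V] [Module ℂ V]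
  (ρ : H →* Module.End ℂ V)

/-- A subspace invariant under two generators is invariant. -/
theorem invariant_of_gen {x y : H} (hgen : Subgroup.closure ({x, y} : Set H) = ⊤) {W : Submodule ℂ V}
    (hxW : ∀ v ∈ W, ρ x v ∈ W) (hyW : ∀ v ∈ W, ρ y v ∈ W) (h : H) : ∀ v ∈ W, ρ h v ∈ W := by
  have hmem : h ∈ Submonoid.closure ({x, y} : Set H) := by
    rw [← Subgroup.closure_toSubmonoid_of_finite, hgen]; trivial
  induction hmem using Submonoid.closure_induction with
  | mem z hz => rcases hz with rfl | rfl <;> assumption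
  | one => intro v hv; rwa [map_one, Module.End.one_apply]
  | mul a b _ _ ha hb => intro v hv; rw [map_mul, Module.End.mul_apply]; exact ha _ (hb v hv)

/-- Two quadratic `p`-elements generating a group commute in every representation. -/
theorem commute_apply_of_quadratic [FiniteDimensional ℂ V] (hp : p.Prime) (h7 : 7 ≤ p) (x y : H)
    (hx : ∃ k, x ^ p ^ k = 1) (hy : ∃ k, y ^ p ^ k = 1)
    (hgen : Subgroup.closure ({x, y} : Set H) = ⊤) (s t : ℂ) (ht : t ≠ 0)
    (hqx : ∀ v, ρ x (ρ x v) = s • ρ x v - t • v) (hqy : ∀ v, ρ y (ρ y v) = s • ρ y v - t • v) :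
    ∀ U : Submodule ℂ V, (∀ h, ∀ v ∈ U, ρ h v ∈ U) → ∀ v ∈ U, ρ (x * y) v = ρ (y * x) v := by
  intro U
  induction hd : finrank ℂ U using Nat.strong_induction_on generalizing U with
  | _ d ih =>
    intro hU v hv
    by_cases hW : ∃ W : Submodule ℂ V, (∀ h, ∀ w ∈ W, ρ h w ∈ W) ∧ W < U ∧ W ≠ ⊥
    · obtain ⟨W, hWi, hWU, hW0⟩ := hW
      obtain ⟨C, hCi, hWC⟩ := DerivedLength.exists_invariant_compl ρ hWi
        (Nat.cast_ne_zero.mpr Nat.card_pos.ne')
      have hsup : W ⊔ (C ⊓ U) = U := by
        rw [← sup_inf_assoc_of_le C hWU.le, hWC.sup_eq_top, top_inf_eq]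
      rw [← hsup] at hv
      obtain ⟨w, hw, c, hc, rfl⟩ := Submodule.mem_sup.mp hv
      rw [map_add, map_add,
        ih _ (hd ▸ Submodule.finrank_lt_finrank_of_lt hWU) W rfl hWi w hw,
        ih _ (hd ▸ Submodule.finrank_lt_finrank_of_lt (lt_of_le_of_ne inf_le_right fun e => hW0 ?_))
          (C ⊓ U) rfl (fun h z hz => ⟨hCi h z hz.1, hU h z hz.2⟩) c hc]
      exact le_bot_iff.mp (hWC.disjoint le_rfl (hWU.le.trans (inf_eq_right.mp e)))
    simp only [not_exists, not_and, not_not] at hW
    -- no proper invariant subspace: degree at most two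
    have hd2 : d ≤ 2 := by
      rcases eq_or_ne U ⊥ with rfl | hU0
      · rw [finrank_bot] at hd; omega
      haveI : Nontrivial U := Submodule.nontrivial_iff_ne_bot.mpr hU0
      obtain ⟨μ, hμ⟩ := Module.End.exists_eigenvalue ((ρ (x * y)).restrict (hU (x * y)))
      obtain ⟨u, hu⟩ := hμ.exists_hasEigenvector
      have hu0 : (u : V) ≠ 0 := fun h => hu.2 (Subtype.ext h)
      have hue : ρ x (ρ y u) = μ • (u : V) := by
        have := congrArg Subtype.val hu.apply_eq_smul
        simpa [Module.End.mul_apply] using this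
      have hinv : ∀ (g : H) (w : V), ρ g⁻¹ (ρ g w) = w := fun g w => by
        rw [← Module.End.mul_apply, ← map_mul, inv_mul_cancel, map_one, Module.End.one_apply]
      have hμ0 : μ ≠ 0 := fun h => hu0 (by
        have h1 := congrArg (fun w => ρ y⁻¹ (ρ x⁻¹ w)) hue
        simpa [hinv, h] using h1)
      have hxinv : ∀ w, ρ x⁻¹ w = t⁻¹ • (s • w - ρ x w) := fun w => by
        have h2 : ρ x⁻¹ (ρ x (ρ x w)) = ρ x w := hinv x (ρ x w)
        rw [hqx, map_sub, map_smul, map_smul, hinv] at h2
        rw [eq_inv_smul_iff₀ ht, eq_sub_iff_add_eq]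
        rw [sub_eq_iff_eq_add] at h2
        exact ((add_comm _ _).trans h2.symm)
      set W := Submodule.span ℂ ({(u : V), ρ x u} : Set V) with hWdef
      have huW : (u : V) ∈ W := Submodule.subset_span (by simp)
      have hxuW : ρ x u ∈ W := Submodule.subset_span (by simp)
      have hyu : ρ y u = (μ * t⁻¹ * s) • (u : V) - (μ * t⁻¹) • ρ x u := by
        rw [← hinv x (ρ y u), hue, map_smul, hxinv, smul_smul, smul_sub, smul_smul]
      have hyuW : ρ y u ∈ W := hyu ▸ W.sub_mem (W.smul_mem _ huW) (W.smul_mem _ hxuW)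
      have hgenW : ∀ z : H, ρ z u ∈ W → ρ z (ρ x u) ∈ W → ∀ w ∈ W, ρ z w ∈ W := by
        intro z h1 h2 w hw
        exact (Submodule.span_le.mpr (fun a ha => by
          rcases ha with rfl | rfl
          · exact h1
          · exact h2) : W ≤ W.comap (ρ z)) hw
      have hWx : ∀ w ∈ W, ρ x w ∈ W := hgenW x hxuW
        (by rw [hqx]; exact W.sub_mem (W.smul_mem _ hxuW) (W.smul_mem _ huW))
      have hWy : ∀ w ∈ W, ρ y w ∈ W := by
        refine hgenW y hyuW ?_
        have h1 : (μ * t⁻¹) • ρ y (ρ x u) = (μ * t⁻¹ * s) • ρ y u - ρ y (ρ y u) := by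
          conv_rhs => arg 2; rw [hyu, map_sub, map_smul, map_smul]
          abel
        have h2 : (μ * t⁻¹) • ρ y (ρ x u) ∈ W := by
          rw [h1, hqy]
          exact W.sub_mem (W.smul_mem _ hyuW) (W.sub_mem (W.smul_mem _ hyuW) (W.smul_mem _ huW))
        exact (W.smul_mem_iff (mul_ne_zero hμ0 (inv_ne_zero ht))).mp h2
      have hWU : W ≤ U := Submodule.span_le.mpr fun a ha => by
        rcases ha with rfl | rfl
        · exact u.2
        · exact hU x _ u.2
      have hWeq : W = U := hWU.eq_or_lt.resolve_right fun hlt =>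
        hu0 (((Submodule.eq_bot_iff W).mp (hW W (invariant_of_gen ρ hgen hWx hWy) hlt)) _ huW)
      rw [← hd, ← hWeq]
      classical
      have h := finrank_span_finset_le_card (R := ℂ) ({(u : V), ρ x u} : Finset V)
      rw [Finset.coe_pair] at h
      exact h.trans Finset.card_le_two
    -- the representation on `U`
    let e : U ≃ₗ[ℂ] (Fin d → ℂ) := LinearEquiv.ofFinrankEq _ _ (by rw [hd, Module.finrank_fin_fun])
    let τ : Representation ℂ H (Fin d → ℂ) :=
      { toFun := fun h => e.conj ((ρ h).restrict (hU h))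
        map_one' := LinearMap.ext fun w => by
          simp [LinearEquiv.conj_apply_apply, LinearMap.restrict_apply]
        map_mul' := fun a b => LinearMap.ext fun w => by
          simp [LinearEquiv.conj_apply_apply, LinearMap.restrict_apply] }
    let τ' : Representation ℂ (H ⧸ τ.ker) (Fin d → ℂ) := QuotientGroup.lift τ.ker τ fun _ hx => hx
    have hτ' : Function.Injective τ' := by
      intro a b
      induction a using QuotientGroup.induction_on with
      | _ a =>
        induction b using QuotientGroup.induction_on with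
        | _ b =>
          intro h
          refine QuotientGroup.eq.mpr ?_
          rw [MonoidHom.mem_ker, map_mul, show τ b = τ a from h.symm, ← map_mul, inv_mul_cancel, map_one]
    have hc := commute_of_degree_le_two hp h7 hd2 τ' hτ' (QuotientGroup.mk x) (QuotientGroup.mk y)
      (hx.imp fun k hk => by rw [← QuotientGroup.mk_pow, hk, QuotientGroup.mk_one])
      (hy.imp fun k hk => by rw [← QuotientGroup.mk_pow, hk, QuotientGroup.mk_one])
      (by
        have := congrArg (Subgroup.map (QuotientGroup.mk' τ.ker)) hgen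
        rw [MonoidHom.map_closure, Set.image_pair, Subgroup.map_top_of_surjective _
          (QuotientGroup.mk'_surjective _)] at this
        exact this)
    have h := congrArg τ' hc
    have h' : τ (x * y) (e ⟨v, hv⟩) = τ (y * x) (e ⟨v, hv⟩) := LinearMap.congr_fun h _
    simpa [τ, LinearEquiv.conj_apply_apply, LinearMap.restrict_apply] using h'

/-- Two quadratic `p`-elements of a finite linear group commute. -/
theorem commute_of_quadratic [FiniteDimensional ℂ V] (hp : p.Prime) (h7 : 7 ≤ p) (hρ : Function.Injective ρ) (x y : H)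
    (hx : ∃ k, x ^ p ^ k = 1) (hy : ∃ k, y ^ p ^ k = 1) (s t : ℂ) (ht : t ≠ 0)
    (hqx : ∀ v, ρ x (ρ x v) = s • ρ x v - t • v) (hqy : ∀ v, ρ y (ρ y v) = s • ρ y v - t • v) :
    x * y = y * x := by
  set L := Subgroup.closure ({x, y} : Set H) with hL
  have hxL : x ∈ L := Subgroup.subset_closure (by simp)
  have hyL : y ∈ L := Subgroup.subset_closure (by simp)
  have hgen : Subgroup.closure ({⟨x, hxL⟩, ⟨y, hyL⟩} : Set L) = ⊤ := by
    refine Subgroup.map_injective L.subtype_injective ?_
    rw [MonoidHom.map_closure, Set.image_pair, ← MonoidHom.range_eq_map, L.range_subtype]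
    rfl
  have key := commute_apply_of_quadratic (ρ.comp L.subtype) hp h7 ⟨x, hxL⟩ ⟨y, hyL⟩
    (hx.imp fun k hk => Subtype.ext (by simpa using hk)) (hy.imp fun k hk => Subtype.ext (by simpa using hk))
    hgen s t ht hqx hqy ⊤ (fun _ _ _ => Submodule.mem_top)
  exact hρ (LinearMap.ext fun v => key v Submodule.mem_top)

/-- A `p`-element (`p ≥ 7`) of a finite linear group with a quadratic equation lies in `O_p`. -/
theorem mem_pCore_of_quadratic [FiniteDimensional ℂ V] (hp : p.Prime) (h7 : 7 ≤ p) (hρ : Function.Injective ρ) (y : H)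
    (hy : ∃ k, y ^ p ^ k = 1) (s t : ℂ) (ht : t ≠ 0)
    (hq : ∀ v, ρ y (ρ y v) = s • ρ y v - t • v) : y ∈ Cfsg.pCore p H := by
  have hconj : ∀ c ∈ Group.conjugatesOfSet ({y} : Set H), (∃ k, c ^ p ^ k = 1) ∧
      ∀ v, ρ c (ρ c v) = s • ρ c v - t • v := by
    intro c hc
    simp only [Group.mem_conjugatesOfSet_iff, Set.mem_singleton_iff, exists_eq_left, isConj_iff] at hc
    obtain ⟨g, rfl⟩ := hc
    refine ⟨hy.imp fun k hk => by rw [conj_pow, hk, mul_one, mul_inv_cancel], fun v => ?_⟩
    have h1 : ∀ w, ρ g⁻¹ (ρ g w) = w := fun w => by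
      rw [← Module.End.mul_apply, ← map_mul, inv_mul_cancel, map_one, Module.End.one_apply]
    have h2 : ∀ w, ρ g (ρ g⁻¹ w) = w := fun w => by
      rw [← Module.End.mul_apply, ← map_mul, mul_inv_cancel, map_one, Module.End.one_apply]
    simp only [map_mul, Module.End.mul_apply, h1, hq, map_sub, map_smul, h2]
  have hcomm : IsMulCommutative (Subgroup.normalClosure ({y} : Set H)) :=
    Subgroup.isMulCommutative_closure fun a ha b hb =>
      commute_of_quadratic ρ hp h7 hρ a b (hconj a ha).1 (hconj b hb).1 s t ht (hconj a ha).2 (hconj b hb).2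
  have hcl : ∀ z ∈ Subgroup.normalClosure ({y} : Set H), ∃ k, z ^ p ^ k = 1 := by
    intro z hz
    induction hz using Subgroup.closure_induction with
    | mem a ha => exact (hconj a ha).1
    | one => exact ⟨0, one_pow _⟩
    | mul a b ha hb iha ihb =>
      obtain ⟨k, hk⟩ := iha
      obtain ⟨l, hl⟩ := ihb
      have hc : Commute a b := congrArg Subtype.val (hcomm.is_comm.comm (⟨a, ha⟩ :
        Subgroup.normalClosure ({y} : Set H)) ⟨b, hb⟩)
      refine ⟨k + l, ?_⟩
      rw [hc.mul_pow, pow_add, pow_mul, hk, one_pow, one_mul, mul_comm, pow_mul, hl, one_pow]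
    | inv a _ iha => exact iha.imp fun k hk => by rw [inv_pow, hk, inv_one]
  have hN : Subgroup.normalClosure ({y} : Set H) ∈ {N : Subgroup H | N.Normal ∧ IsPGroup p N} :=
    ⟨Subgroup.normalClosure_normal, fun z => (hcl z.1 z.2).imp fun k hk => Subtype.ext (by simpa using hk)⟩
  exact le_sSup hN (Subgroup.subset_normalClosure (Set.mem_singleton y))

end Cfsg.Agent.TwoEigen
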