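import Cfsg.Agent.Lib.TwoEigen.Commute
import Cfsg.Agent.Lib.FixedDim.Weights
import Cfsg.Agent.Lib.PGroup.Basic
import Cfsg.Agent.Lib.CharInt.Central
import Cfsg.Agent.Lib.Char.Clifford
import Cfsg.Agent.Lib.PCore.Basic

/-!
# Linear groups of degree less than `2p` with non-abelian Sylow `p`-subgroup

`not_sq_dvd_index_pCore`: the non-trivial central commutator element of the Sylow subgroup has two eigenvalues, so
lies in `O_p`, which is then abelian with `n` distinct weights; the quotient by a normal abelian subgroup embeds in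
`S_n`.
-/

set_option autoImplicit false
set_option linter.style.haveILetI false

namespace Cfsg.Agent.TwoEigen

open Module
open scoped commutatorElement ComplexConjugate IsMulCommutative

theorem not_sq_dvd_factorial {p : ℕ} (hp : p.Prime) : ∀ {n : ℕ}, n < 2 * p → ¬ p ^ 2 ∣ n.factorial
  | 0, _ => by
    intro h
    have h1 := Nat.le_of_dvd one_pos (by simpa using h)
    have := hp.two_le
    nlinarith
  | n + 1, hn => by
    intro h
    rw [Nat.factorial_succ] at h
    by_cases hd : p ∣ n + 1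
    · obtain ⟨c, hc⟩ := hd
      have hc1 : c = 1 := by
        rcases c with _ | _ | c
        · omega
        · rfl
        · rw [hc] at hn; nlinarith
      rw [hc, hc1, mul_one, pow_two] at h
      have := (hp.dvd_factorial).mp ((Nat.mul_dvd_mul_iff_left hp.pos).mp h)
      rw [hc1, mul_one] at hc
      omega
    · exact not_sq_dvd_factorial hp (by omega)
        (((hp.coprime_iff_not_dvd.mpr hd).pow_left 2).dvd_of_dvd_mul_left h)

universe u

variable {G : Type u} [Group G] [Finite G] {p n : ℕ}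

/-- An element with the trace pattern of two eigenvalues satisfies their quadratic equation. -/
theorem quadratic_of_traces (ρ : Representation ℂ G (Fin n → ℂ)) (y : G) (a b : ℕ) (ω : ℂ)
    (hωy : ω ^ orderOf y = 1) (h : ∀ k : ℕ, ρ.character (y ^ k) = (a : ℂ) + (b : ℂ) * ω ^ k) (v : Fin n → ℂ) :
    ρ y (ρ y v) = (1 + ω) • ρ y v - ω • v := by
  classical
  obtain ⟨B, μ, hμ, hB⟩ := CharInt.exists_eigenbasis_rho ρ y
  set N := orderOf y with hN
  have hN0 : 0 < N := orderOf_pos y
  have hsum : ∀ k : ℕ, ∑ i, μ i ^ k = (a : ℂ) + (b : ℂ) * ω ^ k := fun k => by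
    rw [← h k, Representation.character, map_pow]
    exact (CharInt.trace_of_eigenbasis B (CharInt.pow_apply_eigenvector B hB k)).symm
  -- the squared modulus of `f μ`, as a combination of powers
  let Φ : ℂ → ℂ := fun z => (1 + (1 + ω) * conj (1 + ω) + ω * conj ω)
    - (conj (1 + ω) + (1 + ω) * conj ω) * z - ((1 + ω) + ω * conj (1 + ω)) * z ^ (N - 1)
    + conj ω * z ^ 2 + ω * z ^ (2 * (N - 1))
  have hΦ : ∀ z : ℂ, z ^ N = 1 → Φ z = ((Complex.normSq ((z - 1) * (z - ω)) : ℝ) : ℂ) := by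
    intro z hz
    have hzi : conj z = z ^ (N - 1) := by
      rw [CharInt.conj_eq_inv_of_pow_eq_one hN0.ne' hz]
      refine inv_eq_of_mul_eq_one_right ?_
      rw [← pow_succ', Nat.sub_add_cancel hN0, hz]
    have hz1 : z * z ^ (N - 1) = 1 := by rw [← pow_succ', Nat.sub_add_cancel hN0, hz]
    rw [Complex.normSq_eq_conj_mul_self]
    simp only [Φ, map_mul, map_sub, map_one, map_add, hzi, mul_comm 2 (N - 1), pow_mul]
    linear_combination (-(z * z ^ (N - 1)) - 1 + (1 + conj ω) * z + (1 + ω) * z ^ (N - 1)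
      - (1 + ω) * (1 + conj ω)) * hz1
  have hlin : ∑ i, Φ (μ i) = (a : ℂ) * Φ 1 + (b : ℂ) * Φ ω := by
    have h0 := hsum 0
    simp only [pow_zero, mul_one, Finset.sum_const, Finset.card_univ, nsmul_eq_mul] at h0
    have h1 := hsum 1
    simp only [pow_one] at h1
    simp only [Φ, Finset.sum_add_distrib, Finset.sum_sub_distrib, ← Finset.mul_sum, Finset.sum_const,
      Finset.card_univ, nsmul_eq_mul, h0, h1, hsum (N - 1), hsum 2, hsum (2 * (N - 1)), one_pow]
    ring
  have hzero : ∀ i, (μ i - 1) * (μ i - ω) = 0 := by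
    intro i
    have h1 : ∑ j, Complex.normSq ((μ j - 1) * (μ j - ω)) = 0 := by
      apply Complex.ofReal_injective
      rw [Complex.ofReal_sum, ← Finset.sum_congr rfl fun j _ => hΦ (μ j) (hμ j), hlin,
        hΦ 1 (one_pow N), hΦ ω hωy]
      simp
    exact Complex.normSq_eq_zero.mp
      ((Finset.sum_eq_zero_iff_of_nonneg fun j _ => Complex.normSq_nonneg _).mp h1 i (Finset.mem_univ i))
  suffices ρ y * ρ y = (1 + ω) • ρ y - ω • (1 : Module.End ℂ (Fin n → ℂ)) from LinearMap.congr_fun this v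
  refine B.ext fun i => ?_
  simp only [Module.End.mul_apply, hB, map_smul, LinearMap.sub_apply, LinearMap.smul_apply,
    Module.End.one_apply, smul_smul, ← sub_smul]
  congr 1
  linear_combination hzero i

variable [hp : Fact p.Prime]

/-- A non-abelian Sylow subgroup contains a non-trivial element with two eigenvalues. -/
theorem exists_quadratic_of_sylow (hn2 : n < 2 * p) (ρ : Representation ℂ G (Fin n → ℂ))
    (hρ : Function.Injective ρ) (P : Sylow p G)
    (hP : ∃ x ∈ (P : Subgroup G), ∃ y ∈ (P : Subgroup G), x * y ≠ y * x) :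
    p ≤ n ∧ ∃ (y : G) (ω : ℂ), (∃ k, y ^ p ^ k = 1) ∧ ω ≠ 0 ∧ ω ≠ 1 ∧
      ρ.character y = ((n - p : ℕ) : ℂ) + (p : ℂ) * ω ∧
      ∀ v, ρ y (ρ y v) = (1 + ω) • ρ y v - ω • v := by
  classical
  haveI := Fintype.ofFinite G
  haveI := Fintype.ofFinite (P : Subgroup G)
  let σ : Representation ℂ (P : Subgroup G) (Fin n → ℂ) := ρ.comp (P : Subgroup G).subtype
  have hσ : Function.Injective σ := hρ.comp Subtype.val_injective
  obtain ⟨m, hm, -⟩ := Char.IsCharacter.exists_decomp (χ := σ.character) ⟨n, σ, rfl⟩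
  have hsum := Char.LargePrimes.sum_degree_eq σ m hm
  have hlin : ∀ ψ : IrrCharacter (P : Subgroup G), Char.degree ψ = 1 → ∀ z ∈ commutator (P : Subgroup G),
      ψ.1 z = 1 := by
    intro ψ h1 z hz
    obtain ⟨lam, hlam⟩ := Char.IsCharacter.exists_monoidHom (Char.irr_isCharacter ψ)
      (by rw [Char.apply_one_eq_degree, h1, Nat.cast_one])
    rw [← hlam]
    exact congrArg Units.val (Abelianization.commutator_subset_ker lam.toHomUnits hz :)
  have hnc : commutator (P : Subgroup G) ≠ ⊥ := by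
    intro hbot
    obtain ⟨x, hx, y, hy, hxy⟩ := hP
    have : ⁅(⟨x, hx⟩ : (P : Subgroup G)), ⟨y, hy⟩⁆ ∈ commutator (P : Subgroup G) := by
      rw [commutator_def]
      exact Subgroup.commutator_mem_commutator (Subgroup.mem_top _) (Subgroup.mem_top _)
    rw [hbot, Subgroup.mem_bot] at this
    exact hxy (congrArg Subtype.val (commutatorElement_eq_one_iff_mul_comm.mp this))
  obtain ⟨⟨z, hz⟩, hz0⟩ := Subgroup.ne_bot_iff_exists_ne_one.mp (PGroup.inf_center_ne_bot P.2 _ hnc)
  have hz1 : z ≠ 1 := fun h => hz0 (Subtype.ext h)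
  obtain ⟨ψ0, hψ0, hψ0d⟩ : ∃ ψ0, m ψ0 ≠ 0 ∧ Char.degree ψ0 ≠ 1 := by
    by_contra! hall
    exact hz1 (Char.LargePrimes.eq_one_of_constituents σ hσ m hm fun ψ hψ => by
      rw [hlin ψ (hall ψ hψ) z hz.1, Char.apply_one_eq_degree, hall ψ hψ, Nat.cast_one])
  have hdeg : ∀ ψ : IrrCharacter (P : Subgroup G), m ψ ≠ 0 → Char.degree ψ = 1 ∨ p ≤ Char.degree ψ := by
    intro ψ _
    obtain ⟨k, hk⟩ := IsPGroup.iff_card.mp P.2
    obtain ⟨j, -, hj⟩ := (Nat.dvd_prime_pow hp.out).1 (hk ▸ Char.degree_dvd_natCard ψ)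
    rcases j with _ | j
    · exact Or.inl (by rw [hj, pow_zero])
    · exact Or.inr (hj ▸ Nat.le_self_pow (by simp) p)
  have hd0 : Char.degree ψ0 = p := by
    have h1 := (hdeg ψ0 hψ0).resolve_left hψ0d
    obtain ⟨k, hk⟩ := IsPGroup.iff_card.mp P.2
    obtain ⟨j, -, hj⟩ := (Nat.dvd_prime_pow hp.out).1 (hk ▸ Char.degree_dvd_natCard ψ0)
    have h2 := Char.LargePrimes.degree_le σ m hm ψ0 hψ0
    rcases j with _ | _ | j
    · rw [pow_zero] at hj; omega
    · rw [hj, zero_add, pow_one]
    · have h3 : p ^ 2 ≤ p ^ (j + 2) := Nat.pow_le_pow_right hp.out.pos (by omega)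
      have h4 := hp.out.two_le
      rw [hj] at h2
      nlinarith
  rw [← Finset.add_sum_erase _ _ (Finset.mem_univ ψ0), hd0] at hsum
  have hm1 : m ψ0 = 1 := by
    by_contra h
    have : 2 * p ≤ m ψ0 * p := Nat.mul_le_mul_right p (by omega)
    omega
  rw [hm1, one_mul] at hsum
  have hpn : p ≤ n := by omega
  have hothers : ∀ ψ ∈ Finset.univ.erase ψ0, m ψ ≠ 0 → Char.degree ψ = 1 := by
    intro ψ hψ hmψ
    refine (hdeg ψ hmψ).resolve_right fun hle => ?_
    have h1 := Finset.single_le_sum (f := fun φ : IrrCharacter (P : Subgroup G) => m φ * Char.degree φ)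
      (fun _ _ => Nat.zero_le _) hψ
    have h2 : p ≤ m ψ * Char.degree ψ := hle.trans (Nat.le_mul_of_pos_left _ (Nat.pos_of_ne_zero hmψ))
    omega
  obtain ⟨d, τ, hτirr, hτ⟩ := ψ0.2
  haveI := hτirr
  obtain ⟨ω, hω⟩ := CharInt.exists_smul_one_of_mem_center τ hz.2
  have hdp : (d : ℂ) = (p : ℂ) := by
    rw [← hd0, ← Char.apply_one_eq_degree, ← hτ, τ.char_one, Module.finrank_fin_fun]
  have hψz : ∀ k : ℕ, ψ0.1 (z ^ k) = (p : ℂ) * ω ^ k := by
    intro k
    rw [← hτ, Representation.character, map_pow, hω, smul_pow, one_pow, map_smul, LinearMap.trace_one,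
      Module.finrank_fin_fun, smul_eq_mul, hdp, mul_comm]
  have hrest : ∑ ψ ∈ Finset.univ.erase ψ0, m ψ = n - p := by
    rw [← hsum, Nat.add_sub_cancel_left]
    refine Finset.sum_congr rfl fun ψ hψ => ?_
    rcases eq_or_ne (m ψ) 0 with h | h
    · simp [h]
    · rw [hothers ψ hψ h, mul_one]
  have hchar : ∀ k : ℕ, σ.character (z ^ k) = ((n - p : ℕ) : ℂ) + (p : ℂ) * ω ^ k := by
    intro k
    rw [hm, Finset.sum_apply, ← Finset.add_sum_erase _ _ (Finset.mem_univ ψ0), add_comm]
    simp only [Pi.smul_apply, smul_eq_mul, hm1, Nat.cast_one, one_mul, hψz]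
    rw [← hrest, Nat.cast_sum]
    congr 1
    refine Finset.sum_congr rfl fun ψ hψ => ?_
    rcases eq_or_ne (m ψ) 0 with h | h
    · simp [h]
    · rw [hlin ψ (hothers ψ hψ h) _ (pow_mem hz.1 k), mul_one]
  have hωN : ω ^ orderOf z = 1 := by
    have h := hψz (orderOf z)
    rw [pow_orderOf_eq_one, Char.apply_one_eq_degree, hd0] at h
    have hp0 : (p : ℂ) ≠ 0 := Nat.cast_ne_zero.mpr hp.out.ne_zero
    exact (mul_right_eq_self₀.mp h.symm).resolve_right hp0
  refine ⟨hpn, (z : G), ω, ?_, ?_, ?_, ?_, ?_⟩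
  · exact (P.2 z).imp fun k hk => by simpa using congrArg Subtype.val hk
  · intro h
    rw [h, zero_pow (orderOf_pos z).ne'] at hωN
    exact zero_ne_one hωN
  · intro h
    refine hz1 (hσ ?_)
    rw [map_one, ← CharInt.character_eq_finrank_iff, Module.finrank_fin_fun]
    have := hchar 1
    rw [pow_one, h, one_pow, mul_one, ← Nat.cast_add, Nat.sub_add_cancel hpn] at this
    exact this
  · have h := hchar 1
    rw [pow_one, pow_one] at h
    exact h
  · exact quadratic_of_traces ρ z (n - p) p ω (by rwa [Subgroup.orderOf_coe]) fun k => by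
      rw [← hchar k]; simp [σ, Representation.character]

/-- A normal `p`-subgroup is abelian when the degree of a faithful irreducible representation is prime to `p`. -/
theorem isMulCommutative_of_not_dvd (ρ : Representation ℂ G (Fin n → ℂ)) [hirr : ρ.IsIrreducible]
    (hρ : Function.Injective ρ) (hpn : ¬ p ∣ n) (R : Subgroup G) [R.Normal] (hR : IsPGroup p R) :
    IsMulCommutative R := by
  classical
  haveI := Fintype.ofFinite G
  haveI := Fintype.ofFinite R
  let χ : IrrCharacter G := ⟨ρ.character, n, ρ, hirr, rfl⟩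
  let σ : Representation ℂ R (Fin n → ℂ) := ρ.comp R.subtype
  obtain ⟨m, hm, hm'⟩ := Char.IsCharacter.exists_decomp (χ := σ.character) ⟨n, σ, rfl⟩
  refine ⟨⟨fun x y => commutatorElement_eq_one_iff_mul_comm.mp
    (Char.LargePrimes.eq_one_of_constituents σ (hρ.comp Subtype.val_injective) m hm fun θ hθ => ?_)⟩⟩
  have hne : classInner (Char.resFun R χ.1) θ.1 ≠ 0 := by
    rw [show Char.resFun R χ.1 = σ.character from rfl, hm']
    exact Nat.cast_ne_zero.mpr hθ
  have h1 := Char.apply_one_eq_mul_card_orbit R χ θ hne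
  rw [show Char.resFun R χ.1 = σ.character from rfl, hm', show χ.1 1 = (n : ℂ) by
    show ρ.character 1 = _
    rw [ρ.char_one, Module.finrank_fin_fun], Char.apply_one_eq_degree] at h1
  have h2 : n = m θ * ((Char.orbitFinset R θ).card * Char.degree θ) := by exact_mod_cast h1
  obtain ⟨k, hk⟩ := IsPGroup.iff_card.mp hR
  obtain ⟨j, -, hj⟩ := (Nat.dvd_prime_pow hp.out).1 (hk ▸ Char.degree_dvd_natCard θ)
  have hj0 : j = 0 := by
    by_contra hj0
    exact hpn (h2 ▸ Dvd.dvd.mul_left (Dvd.dvd.mul_left (hj ▸ dvd_pow_self p hj0) _) _)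
  have hd : θ.1 1 = 1 := by rw [Char.apply_one_eq_degree, hj, hj0, pow_zero, Nat.cast_one]
  obtain ⟨lam, hlam⟩ := Char.IsCharacter.exists_monoidHom (Char.irr_isCharacter θ) hd
  rw [← hlam, commutatorElement_def, map_mul, map_mul, map_mul, mul_right_comm (lam _) (lam _) (lam _),
    ← map_mul, mul_inv_cancel, map_one, one_mul, ← map_mul, mul_inv_cancel, map_one]

/-- An abelian normal subgroup with an element having `p` eigenvalues `ω` and `n - p` eigenvalues `1`, `p` prime to
`n`, has an abelian normal overgroup whose index divides `n!`. -/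
theorem exists_abelian_index_dvd (ρ : Representation ℂ G (Fin n → ℂ)) [hirr : ρ.IsIrreducible]
    (hρ : Function.Injective ρ) (hpn : ¬ p ∣ n) (hle : p ≤ n) (R : Subgroup G) [R.Normal] [IsMulCommutative R]
    (y : R) (ω : ℂ) (hω1 : ω ≠ 1) (htr : ρ.character (y : G) = ((n - p : ℕ) : ℂ) + (p : ℂ) * ω)
    (hq : ∀ v, ρ (y : G) (ρ (y : G) v) = (1 + ω) • ρ (y : G) v - ω • v) :
    ∃ D : Subgroup G, D.Normal ∧ (∀ a ∈ D, ∀ b ∈ D, a * b = b * a) ∧ D.index ∣ n.factorial := by
  classical
  set σ : R →* Module.End ℂ (Fin n → ℂ) := ρ.comp R.subtype with hσ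
  have hA : (Nat.card R : ℂ) ≠ 0 := Nat.cast_ne_zero.mpr Nat.card_pos.ne'
  haveI := (FixedDim.card_chars (A := R) (K := ℂ) hA).1
  haveI := Fintype.ofFinite (R →* ℂˣ)
  have hspan : Submodule.span ℂ (⋃ χ : R →* ℂˣ, (FixedDim.wsp σ χ : Set (Fin n → ℂ))) = ⊤ := by
    refine eq_top_iff.mpr fun u _ => ?_
    have h : u = (Nat.card R : ℂ)⁻¹ • ∑ χ : R →* ℂˣ, FixedDim.wproj σ χ u := by
      rw [← LinearMap.sum_apply, FixedDim.sum_wproj σ hA, LinearMap.smul_apply, Module.End.one_apply,
        smul_smul, inv_mul_cancel₀ hA, one_smul]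
    rw [h]
    exact Submodule.smul_mem _ _ (Submodule.sum_mem _ fun χ _ =>
      Submodule.subset_span (Set.mem_iUnion_of_mem χ (FixedDim.wproj_mem σ χ u)))
  obtain ⟨b, hb, hbspan, hbli⟩ :=
    exists_linearIndependent ℂ (⋃ χ : R →* ℂˣ, (FixedDim.wsp σ χ : Set (Fin n → ℂ)))
  rw [hspan] at hbspan
  let B0 := Module.Basis.mk hbli (by rw [Subtype.range_coe, hbspan])
  haveI : Fintype b := FiniteDimensional.fintypeBasisIndex B0
  have hcard : Fintype.card b = n := by rw [← Module.finrank_eq_card_basis B0, Module.finrank_fin_fun]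
  let B := B0.reindex (Fintype.equivFinOfCardEq hcard)
  have hw : ∀ i, ∃ χ : R →* ℂˣ, B i ∈ FixedDim.wsp σ χ := by
    intro i
    obtain ⟨χ, hχ⟩ := Set.mem_iUnion.mp (hb ((Fintype.equivFinOfCardEq hcard).symm i).2)
    exact ⟨χ, by simpa [B, B0] using hχ⟩
  choose χ hχ using hw
  -- the fibres are bases of the weight spaces
  let F : (R →* ℂˣ) → Finset (Fin n) := fun l => Finset.univ.filter fun i => χ i = l
  have hFle : ∀ l, Submodule.span ℂ (B '' (F l : Set (Fin n))) ≤ FixedDim.wsp σ l := fun l =>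
    Submodule.span_le.mpr (by
      rintro _ ⟨i, hi, rfl⟩
      rw [Finset.mem_coe, Finset.mem_filter] at hi
      exact hi.2 ▸ hχ i)
  have hFrank : ∀ l, finrank ℂ (Submodule.span ℂ (B '' (F l : Set (Fin n)))) = (F l).card := by
    intro l
    rw [Set.image_eq_range, finrank_span_eq_card]
    · simp
    · exact B.linearIndependent.comp _ Subtype.val_injective
  have hFdim : ∀ l, (F l).card = finrank ℂ (FixedDim.wsp σ l) := by
    have h1 : ∀ l ∈ (Finset.univ : Finset (R →* ℂˣ)), (F l).card ≤ finrank ℂ (FixedDim.wsp σ l) :=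
      fun l _ => hFrank l ▸ Submodule.finrank_mono (hFle l)
    have h2 : ∑ l : R →* ℂˣ, finrank ℂ (FixedDim.wsp σ l) ≤ ∑ l : R →* ℂˣ, (F l).card := by
      refine (FixedDim.sum_finrank_le σ hA _).trans ?_
      rw [Module.finrank_fin_fun, ← Finset.card_eq_sum_card_fiberwise (fun i _ => Finset.mem_univ (χ i)),
        Finset.card_univ, Fintype.card_fin]
    intro l
    exact (Finset.sum_eq_sum_iff_of_le h1).mp (le_antisymm (Finset.sum_le_sum h1) h2) l (Finset.mem_univ l)
  have hFspan : ∀ l, Submodule.span ℂ (B '' (F l : Set (Fin n))) = FixedDim.wsp σ l := fun l =>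
    Submodule.eq_of_le_of_finrank_eq (hFle l) ((hFrank l).trans (hFdim l))
  have htw : ∀ g i, ρ g (B i) ∈ FixedDim.wsp σ (FixedDim.tw R g (χ i)) := fun g i =>
    FixedDim.map_wsp ρ R g (hχ i)
  letI := FixedDim.charAction (K := ℂ) R
  -- a single orbit of weights
  have hn0 : 0 < n := hp.out.pos.trans_le hle
  let i0 : Fin n := ⟨0, hn0⟩
  have horb : ∀ j, ∃ g : G, FixedDim.tw R g (χ i0) = χ j := by
    set S : Set (Fin n) := {j | ∃ g : G, FixedDim.tw R g (χ i0) = χ j} with hS
    have hinv : ∀ g : G, ∀ v ∈ Submodule.span ℂ (B '' S), ρ g v ∈ Submodule.span ℂ (B '' S) := by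
      intro g v hv
      refine (Submodule.span_le.mpr ?_ :
        Submodule.span ℂ (B '' S) ≤ (Submodule.span ℂ (B '' S)).comap (ρ g)) hv
      rintro _ ⟨j, ⟨h, hh⟩, rfl⟩
      refine Submodule.span_mono ?_ ((hFspan _).ge (htw g j))
      rintro _ ⟨k, hk, rfl⟩
      rw [Finset.mem_coe, Finset.mem_filter] at hk
      refine ⟨k, ⟨g * h, ?_⟩, rfl⟩
      rw [hk.2, ← hh]
      exact mul_smul g h (χ i0)
    let W : Subrepresentation ρ :=
      { toSubmodule := Submodule.span ℂ (B '' S), apply_mem_toSubmodule := hinv }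
    have hWne : W ≠ ⊥ := fun h => by
      have hmem : B i0 ∈ Submodule.span ℂ (B '' S) :=
        Submodule.subset_span ⟨i0, ⟨1, one_smul G (χ i0)⟩, rfl⟩
      rw [show Submodule.span ℂ (B '' S) = ⊥ from congrArg Subrepresentation.toSubmodule h,
        Submodule.mem_bot] at hmem
      exact B.ne_zero i0 hmem
    intro j
    have htop : B j ∈ Submodule.span ℂ (B '' S) := by
      rw [show Submodule.span ℂ (B '' S) = ⊤ from congrArg Subrepresentation.toSubmodule
        ((eq_bot_or_eq_top W).resolve_left hWne)]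
      trivial
    exact B.self_mem_span_image.mp htop
  have hconst : ∀ j, (F (χ j)).card = (F (χ i0)).card := by
    intro j
    obtain ⟨g, hg⟩ := horb j
    rw [hFdim, hFdim, ← hg]
    exact FixedDim.finrank_wsp_tw ρ R g (χ i0)
  -- the eigenvalues of `y`
  have hval : ∀ i, (χ i y : ℂ) = 1 ∨ (χ i y : ℂ) = ω := by
    intro i
    have h1 : ρ (y : G) (B i) = (χ i y : ℂ) • B i := hχ i y
    have h2 := hq (B i)
    rw [h1, map_smul, h1, smul_smul, smul_smul, ← sub_smul] at h2
    have h3 := smul_left_injective ℂ (B.ne_zero i) h2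
    have h4 : ((χ i y : ℂ) - 1) * ((χ i y : ℂ) - ω) = 0 := by linear_combination h3
    rcases mul_eq_zero.mp h4 with h | h
    · exact Or.inl (sub_eq_zero.mp h)
    · exact Or.inr (sub_eq_zero.mp h)
  let T : Finset (Fin n) := Finset.univ.filter fun i => (χ i y : ℂ) = ω
  have hTp : T.card = p := by
    have h1 : ρ.character (y : G) = ∑ i, (χ i y : ℂ) :=
      CharInt.trace_of_eigenbasis B fun i => hχ i y
    rw [htr, ← Finset.sum_add_sum_compl T, Finset.sum_congr rfl (g := fun _ => ω)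
      (fun i hi => (Finset.mem_filter.mp hi).2), Finset.sum_congr rfl (s₁ := Tᶜ) (g := fun _ => (1 : ℂ))
      (fun i hi => (hval i).resolve_right fun h => Finset.mem_compl.mp hi
        (Finset.mem_filter.mpr ⟨Finset.mem_univ i, h⟩))] at h1
    simp only [Finset.sum_const, nsmul_eq_mul, Finset.card_compl, Fintype.card_fin, mul_one] at h1
    have hTn : T.card ≤ n := by simpa using Finset.card_le_univ T
    rw [Nat.cast_sub hle, Nat.cast_sub hTn] at h1
    have h2 : ((T.card : ℂ) - p) * (ω - 1) = 0 := by linear_combination -h1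
    exact_mod_cast sub_eq_zero.mp ((mul_eq_zero.mp h2).resolve_right (sub_ne_zero.mpr hω1))
  have hdiv : ∀ U : Finset (Fin n), (∀ i j, χ i = χ j → i ∈ U → j ∈ U) → (F (χ i0)).card ∣ U.card := by
    intro U hU
    rw [Finset.card_eq_sum_card_image χ U]
    refine Finset.dvd_sum fun l hl => ?_
    obtain ⟨i, hiU, rfl⟩ := Finset.mem_image.mp hl
    rw [← hconst i]
    refine dvd_of_eq (congrArg Finset.card ?_).symm
    ext j
    simp only [F, Finset.mem_filter, Finset.mem_univ, true_and]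
    exact ⟨fun h => h.2, fun h => ⟨hU i j h.symm hiU, h⟩⟩
  have hd1 : (F (χ i0)).card = 1 := by
    have hdp : (F (χ i0)).card ∣ p := hTp ▸ hdiv T fun i j hij hi => by
      simp only [T, Finset.mem_filter, Finset.mem_univ, true_and] at hi ⊢
      rwa [← hij]
    have hdn : (F (χ i0)).card ∣ n := by simpa using hdiv Finset.univ fun _ j _ _ => Finset.mem_univ j
    exact ((Nat.dvd_prime hp.out).mp hdp).resolve_right fun h => hpn (h ▸ hdn)
  have hχinj : Function.Injective χ := fun i j hij =>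
    Finset.card_le_one.mp ((hconst i).trans hd1).le i (by simp [F]) j (by simp [F, hij])
  have hFone : ∀ i, Submodule.span ℂ {B i} = FixedDim.wsp σ (χ i) := by
    intro i
    rw [← hFspan, show (F (χ i) : Set (Fin n)) = {i} by ext j; simp [F, hχinj.eq_iff], Set.image_singleton]
  -- the action on the weights
  have hweight : ∀ g i, ∃ j, χ j = FixedDim.tw R g (χ i) := by
    intro g i
    obtain ⟨h, hh⟩ := horb i
    by_contra! hno
    have h1 := (hFspan _).ge (htw g i)
    rw [show F (FixedDim.tw R g (χ i)) = ∅ by ext j; simp [F, hno j], Finset.coe_empty, Set.image_empty,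
      Submodule.span_empty, Submodule.mem_bot] at h1
    exact B.ne_zero i (FixedDim.rho_injective ρ g (h1.trans (map_zero (ρ g)).symm))
  choose π hπ using hweight
  have hπmul : ∀ x z i, π (x * z) i = π x (π z i) := by
    intro x z i
    apply hχinj
    rw [hπ, hπ, hπ]
    exact mul_smul x z (χ i)
  have hπone : ∀ i, π 1 i = i := fun i => hχinj ((hπ 1 i).trans (one_smul G (χ i)))
  let perm : G →* Equiv.Perm (Fin n) :=
    { toFun := fun x =>
        { toFun := π x
          invFun := π x⁻¹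
          left_inv := fun i => by rw [← hπmul, inv_mul_cancel, hπone]
          right_inv := fun i => by rw [← hπmul, mul_inv_cancel, hπone] }
      map_one' := Equiv.ext hπone
      map_mul' := fun x z => Equiv.ext (hπmul x z) }
  refine ⟨perm.ker, inferInstance, fun a ha c hc => hρ (B.ext fun i => ?_), ?_⟩
  · have hline : ∀ g ∈ perm.ker, ∀ i, ∃ l : ℂ, ρ g (B i) = l • B i := by
      intro g hg i
      have h1 := htw g i
      rw [← hπ, show π g i = i from DFunLike.congr_fun (MonoidHom.mem_ker.mp hg) i, ← hFone] at h1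
      obtain ⟨l, hl⟩ := Submodule.mem_span_singleton.mp h1
      exact ⟨l, hl.symm⟩
    obtain ⟨la, hla⟩ := hline a ha i
    obtain ⟨lc, hlc⟩ := hline c hc i
    rw [map_mul, map_mul, Module.End.mul_apply, Module.End.mul_apply, hla, hlc, map_smul, map_smul, hla,
      hlc, smul_comm]
  · rw [Subgroup.index_ker]
    have := Subgroup.card_subgroup_dvd_card perm.range
    rwa [Nat.card_perm, Nat.card_fin] at this

/-- In degree `n < 2p`, `n ≠ p`, `p² ∤ |G : O_p(G)|` when the Sylow subgroup is non-abelian. -/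
theorem not_sq_dvd_index_pCore (h7 : 7 ≤ p) (hn2 : n < 2 * p) (hnp : n ≠ p)
    (ρ : Representation ℂ G (Fin n → ℂ)) [hirr : ρ.IsIrreducible] (hρ : Function.Injective ρ) (P : Sylow p G)
    (hP : ∃ x ∈ (P : Subgroup G), ∃ y ∈ (P : Subgroup G), x * y ≠ y * x) :
    ¬ p ^ 2 ∣ (Cfsg.pCore p G).index := by
  obtain ⟨hle, y, ω, hy, hω0, hω1, htr, hq⟩ := exists_quadratic_of_sylow hn2 ρ hρ P hP
  have hpn : ¬ p ∣ n := fun ⟨c, hc⟩ => by
    rcases c with _ | _ | c
    · omega
    · omega
    · rw [hc] at hn2; nlinarith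
  set R := Cfsg.pCore p G with hR
  have hyR : y ∈ R := mem_pCore_of_quadratic ρ hp.out h7 hρ y hy _ _ hω0 hq
  haveI : R.Normal := PCore.pCore_normal
  have hRp : IsPGroup p R := PCore.isPGroup_pCore
  haveI := isMulCommutative_of_not_dvd ρ hρ hpn R hRp
  obtain ⟨D, hDn, hDc, hDi⟩ := exists_abelian_index_dvd ρ hρ hpn hle R ⟨y, hyR⟩ ω hω1 htr hq
  haveI := hDn
  -- `p`-elements of `D` lie in `O_p(G)`
  have hpD : ∀ a ∈ D, (∃ k, a ^ p ^ k = 1) → a ∈ R := by
    intro a haD ha
    let Q : Subgroup G :=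
      { carrier := {g | g ∈ D ∧ ∃ k, g ^ p ^ k = 1}
        one_mem' := ⟨one_mem D, 0, one_pow _⟩
        mul_mem' := by
          rintro g h ⟨hg, k, hk⟩ ⟨hh, l, hl⟩
          refine ⟨mul_mem hg hh, k + l, ?_⟩
          rw [(show Commute g h from hDc g hg h hh).mul_pow, pow_add, pow_mul, hk, one_pow, one_mul,
            mul_comm, pow_mul, hl, one_pow]
        inv_mem' := by
          rintro g ⟨hg, k, hk⟩
          exact ⟨inv_mem hg, k, by rw [inv_pow, hk, inv_one]⟩ }
    have hQ : Q ∈ {N : Subgroup G | N.Normal ∧ IsPGroup p N} :=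
      ⟨⟨fun g hg x => ⟨hDn.conj_mem g hg.1 x, hg.2.imp fun k hk => by
          rw [conj_pow, hk, mul_one, mul_inv_cancel]⟩⟩,
        fun g => g.2.2.imp fun k hk => Subtype.ext (by simpa using hk)⟩
    exact le_sSup hQ (show a ∈ Q from ⟨haD, ha⟩)
  intro hdvd
  have hrel : ¬ p ∣ R.relIndex D := by
    intro hd
    have hcard : R.relIndex D = Nat.card (D ⧸ R.subgroupOf D) := rfl
    rw [hcard] at hd
    obtain ⟨x, hx⟩ := exists_prime_orderOf_dvd_card' p hd
    obtain ⟨d, rfl⟩ := QuotientGroup.mk_surjective x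
    have hdp : ((d : G)) ^ p ∈ R := by
      have : ((d ^ p : D) : D ⧸ R.subgroupOf D) = 1 := by rw [QuotientGroup.mk_pow, ← hx, pow_orderOf_eq_one]
      simpa [Subgroup.mem_subgroupOf] using (QuotientGroup.eq_one_iff _).mp this
    obtain ⟨k, hk⟩ := hRp ⟨_, hdp⟩
    have hdR : (d : G) ∈ R := hpD _ d.2 ⟨k + 1, by
      rw [pow_succ', pow_mul]; simpa using congrArg Subtype.val hk⟩
    rw [(QuotientGroup.eq_one_iff _).mpr (Subgroup.mem_subgroupOf.mpr hdR), orderOf_one] at hx
    exact hp.out.one_lt.ne hx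
  have h1 : p ^ 2 ∣ R.relIndex D * D.index := by
    rw [← Subgroup.inf_relIndex_right, Subgroup.relIndex_mul_index inf_le_right]
    exact hdvd.trans (Subgroup.index_dvd_of_le inf_le_left)
  exact not_sq_dvd_factorial hp.out hn2
    ((((hp.out.coprime_iff_not_dvd.mpr hrel).pow_left 2).dvd_of_dvd_mul_left h1).trans hDi)

end Cfsg.Agent.TwoEigen
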